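import Groth.Agent.H1KoszulEuler.Rank

/-! Interface lemmas for the statements. -/

universe u

open IsLocalRing
open scoped Pointwise

namespace Groth.Agent.H1KoszulEuler

variable {A : Type u} [CommRing A]

theorem span_cons (x : A) (l : List A) :
    Ideal.ofList (x :: l) = Ideal.span ({x} ∪ {a : A | a ∈ l}) := by
  rw [Ideal.ofList_cons, Ideal.span_union]

theorem span_ofFn {k : ℕ} (x : Fin k → A) : Ideal.ofList (List.ofFn x) = Ideal.span (Set.range x) := by
  show Ideal.span _ = _
  congr 1
  ext a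
  simp [List.mem_ofFn]

theorem forall_mem_ofFn [IsLocalRing A] {k : ℕ} {x : Fin k → A} (hx : ∀ j, x j ∈ maximalIdeal A) :
    ∀ a ∈ List.ofFn x, a ∈ maximalIdeal A := fun a ha => by
  obtain ⟨j, rfl⟩ := List.mem_ofFn.1 ha
  exact hx j

variable [IsNoetherianRing A] [IsLocalRing A]

theorem good_ofFn {k : ℕ} {x : Fin k → A} {M : Type u} [AddCommGroup M] [Module A M] [Module.Finite A M]
    (h : IsFiniteLength A (M ⧸ (Ideal.span (Set.range x) • (⊤ : Submodule A M)))) : Good (List.ofFn x) M :=
  good_of_fl _ _ (by rw [span_ofFn]; exact h)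

theorem length_tensor_le {l : List A} {M : Type u} [AddCommGroup M] [Module A M] [Module.Finite A M]
    (h : Good l M) (q : ℤ) {b : ℕ} (hb : hl l M q ≤ b) :
    Module.length A ((DRing.tensorCx (Koszul.koszul A l) (ModuleCat.of A M)).homology q) ≤ (b : ℕ∞) := by
  rw [hl_tensor_eq, ← coe_len (fl_KH h q)]
  exact Nat.cast_le.2 hb

end Groth.Agent.H1KoszulEuler
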