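import Groth.Agent.Koszul15.Basic
import Groth.Prelude.Def_Koszul
import Groth.Prelude.Def_DRing2
import Mathlib

/-! Koszul complexes: tensor model and the long exact sequence of a cone of multiplication. -/

universe u

open CategoryTheory CategoryTheory.Limits CategoryTheory.Pretriangulated CochainComplex MonoidalCategory

attribute [local instance] HasDerivedCategory.standard

namespace Groth.Agent.H1KoszulEuler

variable {A : Type u} [CommRing A]

theorem homologyMap_smul_id (X : DRing.Cx A) (f : A) (i : ℤ) (x : X.homology i) :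
    HomologicalComplex.homologyMap (f • 𝟙 X) i x = f • x := by
  have h' : (HomologicalComplex.shortComplexFunctor (ModuleCat.{u} A) (ComplexShape.up ℤ) i).map (f • 𝟙 X) =
      f • 𝟙 (X.sc i) := by
    ext <;> simp <;> rfl
  have h : HomologicalComplex.homologyMap (f • 𝟙 X) i = f • 𝟙 (X.homology i) := by
    change ShortComplex.homologyMap ((HomologicalComplex.shortComplexFunctor (ModuleCat.{u} A) (ComplexShape.up ℤ) i).map (f • 𝟙 X)) = _
    rw [h', ShortComplex.homologyMap_smul, ShortComplex.homologyMap_id]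
    rfl
  rw [h]
  rfl

theorem exists_cone_seq (f : A) (X : DRing.Cx A) (n : ℤ) :
    ∃ (b : X.homology n →ₗ[A] (mappingCone (f • 𝟙 X)).homology n)
      (δ : (mappingCone (f • 𝟙 X)).homology n →ₗ[A] X.homology (n + 1)),
      LinearMap.ker b = LinearMap.range (LinearMap.lsmul A (X.homology n) f) ∧ Function.Exact b δ ∧
        LinearMap.range δ = LinearMap.ker (LinearMap.lsmul A (X.homology (n + 1)) f) := by
  let φ := f • 𝟙 X
  let T := DerivedCategory.Q.mapTriangle.obj (mappingCone.triangle φ)
  have hT : T ∈ distinguishedTriangles := DerivedCategory.mappingCone_triangle_distinguished φ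
  let H := fun i : ℤ => DerivedCategory.homologyFunctor (ModuleCat.{u} A) i
  let e : ∀ (Y : DRing.Cx A) (i : ℤ), (H i).obj (DerivedCategory.Q.obj Y) ≅ Y.homology i := fun Y i =>
    (DerivedCategory.homologyFunctorFactors (ModuleCat.{u} A) i).app Y
  have nat : ∀ i (x : (H i).obj (DerivedCategory.Q.obj X)),
      (e X i).hom ((H i).map (DerivedCategory.Q.map φ) x) = f • (e X i).hom x := fun i x => by
    rw [← homologyMap_smul_id X f i]
    exact ConcreteCategory.congr_hom
      ((DerivedCategory.homologyFunctorFactors (ModuleCat.{u} A) i).hom.naturality φ) x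
  let δ₀ : (H n).obj (DerivedCategory.Q.obj (mappingCone φ)) ⟶ (H (n + 1)).obj (DerivedCategory.Q.obj X) :=
    DerivedCategory.HomologySequence.δ T n (n + 1) rfl
  let b₀ : (H n).obj (DerivedCategory.Q.obj X) ⟶ (H n).obj (DerivedCategory.Q.obj (mappingCone φ)) :=
    (H n).map T.mor₂
  let ec := (e (mappingCone φ) n).toLinearEquiv
  let e0 := (e X n).toLinearEquiv
  let e1 := (e X (n + 1)).toLinearEquiv
  have x1 := (ShortComplex.ShortExact.moduleCat_exact_iff_function_exact _).1
    (DerivedCategory.HomologySequence.exact₁ T hT n (n + 1) rfl)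
  have x2 := (ShortComplex.ShortExact.moduleCat_exact_iff_function_exact _).1
    (DerivedCategory.HomologySequence.exact₂ T hT n)
  have x3 := (ShortComplex.ShortExact.moduleCat_exact_iff_function_exact _).1
    (DerivedCategory.HomologySequence.exact₃ T hT n (n + 1) rfl)
  refine ⟨ec.toLinearMap ∘ₗ b₀.hom ∘ₗ e0.symm.toLinearMap, e1.toLinearMap ∘ₗ δ₀.hom ∘ₗ ec.symm.toLinearMap,
    ?_, fun z => ?_, ?_⟩
  · ext x
    refine Iff.trans ec.map_eq_zero_iff ((x2 _).trans ⟨?_, ?_⟩)
    · rintro ⟨y, hy⟩
      refine ⟨e0 y, ((nat n y).symm.trans (congrArg e0 hy)).trans (e0.apply_symm_apply x)⟩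
    · rintro ⟨y, hy⟩
      refine ⟨e0.symm y, e0.injective ((nat n (e0.symm y)).trans ?_)⟩
      show f • e0 (e0.symm y) = e0 (e0.symm x)
      rw [e0.apply_symm_apply, e0.apply_symm_apply]
      exact hy
  · refine Iff.trans e1.map_eq_zero_iff ((x3 _).trans ⟨?_, ?_⟩)
    · rintro ⟨y, hy⟩
      refine ⟨e0 y, ?_⟩
      exact ((congrArg (fun w => ec (b₀ w)) (e0.symm_apply_apply y)).trans (congrArg ec hy)).trans
        (ec.apply_symm_apply z)
    · rintro ⟨y, rfl⟩
      exact ⟨e0.symm y, (ec.symm_apply_apply _).symm⟩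
  · ext x
    constructor
    · rintro ⟨z, rfl⟩
      show f • e1 (δ₀ (ec.symm z)) = 0
      rw [show f • e1 (δ₀ (ec.symm z)) = _ from (nat (n + 1) _).symm]
      exact (congrArg e1 ((x1 _).2 ⟨ec.symm z, rfl⟩)).trans (map_zero e1)
    · intro hx
      obtain ⟨z, hz⟩ := (x1 (e1.symm x)).1 (e1.injective ((nat (n + 1) (e1.symm x)).trans (by
        show f • e1 (e1.symm x) = e1 0
        rw [e1.apply_symm_apply, map_zero]
        exact hx)))
      refine ⟨ec z, ?_⟩
      exact ((congrArg (fun w => e1 (δ₀ w)) (ec.symm_apply_apply z)).trans (congrArg e1 hz)).trans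
        (e1.apply_symm_apply x)

/-- Cones of isomorphic morphisms. -/
noncomputable def coneCongr {K L K' L' : DRing.Cx A} {φ : K ⟶ L} {φ' : K' ⟶ L'} (a : K ≅ K') (b : L ≅ L')
    (w : φ ≫ b.hom = a.hom ≫ φ') (w' : φ' ≫ b.inv = a.inv ≫ φ) : mappingCone φ ≅ mappingCone φ' where
  hom := mappingCone.map φ φ' a.hom b.hom w
  inv := mappingCone.map φ' φ a.inv b.inv w'
  hom_inv_id := by
    refine ((mappingCone.map_comp (φ₁ := φ) (φ₂ := φ') a.hom b.hom w (φ₃ := φ) a.inv b.inv w').symm).trans ?_
    simp [mappingCone.map_id]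
  inv_hom_id := by
    refine ((mappingCone.map_comp (φ₁ := φ') (φ₂ := φ) a.inv b.inv w' (φ₃ := φ') a.hom b.hom w).symm).trans ?_
    simp [mappingCone.map_id]

theorem map_smul_id (M : ModuleCat.{u} A) (f : A) (X : DRing.Cx A) :
    ((tensorRight M).mapHomologicalComplex (ComplexShape.up ℤ)).map (f • 𝟙 X) =
      f • 𝟙 (((tensorRight M).mapHomologicalComplex (ComplexShape.up ℤ)).obj X) := by
  ext n : 1
  show (tensorRight M).map ((f • 𝟙 X : X ⟶ X).f n) =
    (f • 𝟙 (((tensorRight M).mapHomologicalComplex (ComplexShape.up ℤ)).obj X)).f n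
  rw [HomologicalComplex.smul_f_apply, HomologicalComplex.smul_f_apply, HomologicalComplex.id_f,
    HomologicalComplex.id_f, Functor.Linear.map_smul, CategoryTheory.Functor.map_id]
  rfl

theorem nonempty_tensor_iso (M : ModuleCat.{u} A) :
    ∀ l : List A, Nonempty (DRing.tensorCx (Koszul.koszul A l) M ≅ CohIII.koszulCx M l)
  | [] => ⟨(HomologicalComplex.singleMapHomologicalComplex (tensorRight M) (ComplexShape.up ℤ) 0).app
        (ModuleCat.of A A) ≪≫
      (HomologicalComplex.single (ModuleCat.{u} A) (ComplexShape.up ℤ) 0).mapIso (λ_ M)⟩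
  | f :: l => by
    obtain ⟨e⟩ := nonempty_tensor_iso M l
    have e' : ((tensorRight M).mapHomologicalComplex (ComplexShape.up ℤ)).obj (Koszul.koszul A l) ≅
        CohIII.koszulCx M l := e
    refine ⟨mappingCone.mapHomologicalComplexIso (f • 𝟙 (Koszul.koszul A l)) (tensorRight M) ≪≫ ?_⟩
    refine coneCongr e' e' ?_ ?_
    · rw [map_smul_id]; simp [Linear.smul_comp, Linear.comp_smul]
    · rw [map_smul_id]; simp [Linear.smul_comp, Linear.comp_smul]

end Groth.Agent.H1KoszulEuler
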