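import Groth.Agent.H1KoszulEuler.Len
import Groth.Agent.H1KoszulEuler.Cone
import Groth.Agent.HSLib.Samuel

/-! The Koszul Euler characteristic. -/

universe u

open CategoryTheory CategoryTheory.Limits IsLocalRing
open scoped Pointwise

namespace Groth.Agent.H1KoszulEuler

variable {A : Type u} [CommRing A]

/-- Koszul homology in degree `q`. -/
noncomputable abbrev KH (l : List A) (M : Type u) [AddCommGroup M] [Module A M] (q : ℤ) : ModuleCat.{u} A :=
  (CohIII.koszulCx (ModuleCat.of A M) l).homology q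

/-- The length of Koszul homology. -/
noncomputable def hl (l : List A) (M : Type u) [AddCommGroup M] [Module A M] (q : ℤ) : ℕ :=
  len A (KH l M q)

/-- The sign `(-1)^q`. -/
def sgn (q : ℤ) : ℤ := ((q.negOnePow : ℤˣ) : ℤ)

/-- The Euler characteristic. -/
noncomputable def chi (l : List A) (M : Type u) [AddCommGroup M] [Module A M] : ℤ :=
  ∑ᶠ q : ℤ, sgn q * (hl l M q : ℤ)

theorem hl_tensor_eq (l : List A) (M : Type u) [AddCommGroup M] [Module A M] (q : ℤ) :
    Module.length A ((DRing.tensorCx (Koszul.koszul A l) (ModuleCat.of A M)).homology q) =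
      Module.length A (KH l M q) := by
  obtain ⟨e⟩ := nonempty_tensor_iso (ModuleCat.of A M) l
  exact (HomologicalComplex.homologyMapIso e q).toLinearEquiv.length_eq

theorem chi_tensor_eq (l : List A) (M : Type u) [AddCommGroup M] [Module A M] :
    (∑ᶠ i : ℤ, ((i.negOnePow : ℤˣ) : ℤ) *
      ((Module.length A ((DRing.tensorCx (Koszul.koszul A l) (ModuleCat.of A M)).homology i)).toNat : ℤ)) =
      chi l M := by
  refine finsum_congr fun i => ?_
  rw [hl_tensor_eq]
  rfl

theorem subsingleton_KH (l : List A) (M : Type u) [AddCommGroup M] [Module A M] (q : ℤ)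
    (hq : 0 < q ∨ q < -(l.length : ℤ)) : Subsingleton (KH l M q) :=
  ModuleCat.subsingleton_of_isZero (ShortComplex.isZero_homology_of_isZero_X₂ _ (Koszul15.isZero_X _ l q hq))

theorem hl_eq_zero (l : List A) (M : Type u) [AddCommGroup M] [Module A M] (q : ℤ)
    (hq : 0 < q ∨ q < -(l.length : ℤ)) : hl l M q = 0 := by
  have := subsingleton_KH l M q hq
  exact len_subsingleton _

theorem support_finite (l : List A) (M : Type u) [AddCommGroup M] [Module A M] (s : ℤ → ℤ) (c : ℤ) :
    (Function.support fun q => s q * (hl l M (q + c) : ℤ)).Finite := by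
  refine (Set.finite_Icc (-(l.length : ℤ) - c) (-c)).subset fun q hq => ?_
  rw [Set.mem_Icc]
  by_contra h
  apply hq
  show s q * (hl l M (q + c) : ℤ) = 0
  rw [hl_eq_zero l M (q + c) (by omega)]
  simp

theorem sgn_add_one (q : ℤ) : sgn (q + 1) = -sgn q := by
  simp [sgn, Int.negOnePow_succ]

theorem finite_X (M : Type u) [AddCommGroup M] [Module A M] [IsNoetherianRing A] [Module.Finite A M] :
    ∀ (l : List A) (q : ℤ), Module.Finite A ((CohIII.koszulCx (ModuleCat.of A M) l).X q)
  | [], q => by
    by_cases h : q = 0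
    · subst h
      exact Module.Finite.equiv (HomologicalComplex.singleObjXSelf (ComplexShape.up ℤ) 0
        (ModuleCat.of A M)).toLinearEquiv.symm
    · have := ModuleCat.subsingleton_of_isZero
        (HomologicalComplex.isZero_single_obj_X (ComplexShape.up ℤ) 0 (ModuleCat.of A M) q h)
      haveI : Finite ((CohIII.koszulCx (ModuleCat.of A M) ([] : List A)).X q) := @Finite.of_subsingleton _ this
      exact Module.Finite.of_finite
  | f :: l, q => by
    have := finite_X M l (q + 1)
    have := finite_X M l q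
    let φ := f • 𝟙 (CohIII.koszulCx (ModuleCat.of A M) l)
    exact Module.Finite.of_injective
      (((CochainComplex.mappingCone.fst φ).1.v q (q + 1) rfl).hom.prod
        ((CochainComplex.mappingCone.snd φ).v q q (add_zero q)).hom)
      fun a b h => Koszul15.cone_ext f l (congrArg Prod.fst h) (congrArg Prod.snd h)

instance finite_KH [IsNoetherianRing A] (l : List A) (M : Type u) [AddCommGroup M] [Module A M]
    [Module.Finite A M] (q : ℤ) : Module.Finite A (KH l M q) := by
  let K := CohIII.koszulCx (ModuleCat.of A M) l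
  haveI := finite_X M l q
  haveI : Module.Finite A (K.cycles q) :=
    Module.Finite.of_injective (K.iCycles q).hom ((ModuleCat.mono_iff_injective _).1 inferInstance)
  exact Module.Finite.of_surjective (K.homologyπ q).hom ((ModuleCat.epi_iff_surjective _).1 inferInstance)

theorem smul_KH_eq_zero (l : List A) (M : Type u) [AddCommGroup M] [Module A M] (q : ℤ) {a : A}
    (ha : a ∈ Ideal.ofList l ⊔ Module.annihilator A M) (z : KH l M q) : a • z = 0 := by
  obtain ⟨b, hb, c, hc, rfl⟩ := Submodule.mem_sup.1 ha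
  rw [add_smul]
  have h1 : HomologicalComplex.homologyMap (b • 𝟙 (CohIII.koszulCx (ModuleCat.of A M) l)) q z = 0 := by
    obtain ⟨H⟩ := Koszul15.homotopy_of_mem (ModuleCat.of A M) l b hb
    rw [H.homologyMap_eq, HomologicalComplex.homologyMap_zero]
    rfl
  have h2 : c • 𝟙 (CohIII.koszulCx (ModuleCat.of A M) l) =
      (0 : A) • 𝟙 (CohIII.koszulCx (ModuleCat.of A M) l) := by
    rw [← Koszul15.kmap_smul, ← Koszul15.kmap_smul]
    congr 1
    ext m
    show c • m = (0 : A) • m
    rw [zero_smul, Module.mem_annihilator.1 hc]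
  have h3 := homologyMap_smul_id (CohIII.koszulCx (ModuleCat.of A M) l) c q z
  rw [h2, homologyMap_smul_id, zero_smul] at h3
  rw [homologyMap_smul_id] at h1
  rw [h1, ← h3, add_zero]

variable [IsNoetherianRing A] [IsLocalRing A]

/-- `M/(l)M` has finite length, as a condition on ideals. -/
def Good (l : List A) (M : Type u) [AddCommGroup M] [Module A M] : Prop :=
  maximalIdeal A ≤ (Ideal.ofList l ⊔ Module.annihilator A M).radical

theorem good_of_fl (l : List A) (M : Type u) [AddCommGroup M] [Module A M] [Module.Finite A M]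
    (h : IsFiniteLength A (M ⧸ (Ideal.ofList l • (⊤ : Submodule A M)))) : Good l M := by
  rw [Good, Ideal.radical_eq_sInf]
  refine le_sInf fun p hp => ?_
  obtain ⟨hle, hp⟩ := hp
  have hmem : (⟨p, hp⟩ : PrimeSpectrum A) ∈ Module.support A (M ⧸ (Ideal.ofList l • (⊤ : Submodule A M))) := by
    rw [Module.support_quotient]
    refine ⟨?_, le_sup_left.trans hle⟩
    rw [Module.mem_support_iff_of_finite]
    exact le_sup_right.trans hle
  exact (IsLocalRing.eq_maximalIdeal (HSLib.isMaximal_of_isFiniteLength h hmem)).ge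

theorem Good.mono {l : List A} {M N : Type u} [AddCommGroup M] [Module A M] [AddCommGroup N] [Module A N]
    (h : Good l M) (hann : Module.annihilator A M ≤ Module.annihilator A N) : Good l N :=
  h.trans (Ideal.radical_mono (sup_le_sup le_rfl hann))

theorem fl_KH {l : List A} {M : Type u} [AddCommGroup M] [Module A M] [Module.Finite A M] (h : Good l M)
    (q : ℤ) : IsFiniteLength A (KH l M q) := by
  rcases subsingleton_or_nontrivial (KH l M q) with hs | hn
  · exact IsFiniteLength.of_subsingleton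
  obtain ⟨n, hn⟩ := Ideal.exists_pow_le_of_le_radical_of_fg h (IsNoetherian.noetherian _)
  exact AssLib.isFiniteLength_of_pow_le_annihilator A _ (n := n) fun a ha =>
    Module.mem_annihilator.2 fun z => smul_KH_eq_zero l M q (hn ha) z

theorem fl_cons_parts {a : A} {l : List A} {M : Type u} [AddCommGroup M] [Module A M] [Module.Finite A M]
    (h : Good (a :: l) M) (q : ℤ) :
    IsFiniteLength A (Cok a (KH l M q)) ∧ IsFiniteLength A (Ker a (KH l M (q + 1))) ∧
      hl (a :: l) M q = len A (Cok a (KH l M q)) + len A (Ker a (KH l M (q + 1))) := by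
  obtain ⟨b, δ, h1, h2, h3⟩ := exists_cone_seq a (CohIII.koszulCx (ModuleCat.of A M) l) q
  exact len_middle (X := KH (a :: l) M q) a b δ h1 h2 h3 (fl_KH h q)

theorem fl_ker {a : A} {l : List A} {M : Type u} [AddCommGroup M] [Module A M] [Module.Finite A M]
    (h : Good (a :: l) M) (q : ℤ) : IsFiniteLength A (Ker a (KH l M q)) := by
  have := (fl_cons_parts h (q - 1)).2.1
  rwa [sub_add_cancel] at this

theorem chi_cons {a : A} {l : List A} {M : Type u} [AddCommGroup M] [Module A M] [Module.Finite A M]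
    (h : Good (a :: l) M) : chi (a :: l) M = ∑ᶠ q : ℤ, sgn q * emul a (KH l M q) := by
  have hz : ∀ q : ℤ, (0 < q ∨ q < -(l.length : ℤ)) →
      len A (Cok a (KH l M q)) = 0 ∧ len A (Ker a (KH l M q)) = 0 := fun q hq => by
    haveI := subsingleton_KH l M q hq
    exact ⟨len_subsingleton _, len_subsingleton _⟩
  have fin : ∀ (F : ℤ → ℤ) (c : ℤ), (∀ q, (0 < q + c ∨ q + c < -(l.length : ℤ)) → F q = 0) →
      (Function.support F).Finite := fun F c hF => by
    refine (Set.finite_Icc (-(l.length : ℤ) - c) (-c)).subset fun q hq => ?_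
    rw [Set.mem_Icc]
    by_contra hcon
    exact hq (hF q (by omega))
  have e1 : chi (a :: l) M = (∑ᶠ q : ℤ, sgn q * (len A (Cok a (KH l M q)) : ℤ)) +
      ∑ᶠ q : ℤ, sgn q * (len A (Ker a (KH l M (q + 1))) : ℤ) := by
    rw [← finsum_add_distrib (fin _ 0 fun q hq => by rw [add_zero] at hq; simp [(hz q hq).1])
      (fin _ 1 fun q hq => by simp [(hz (q + 1) hq).2])]
    exact finsum_congr fun q => by rw [(fl_cons_parts h q).2.2, Nat.cast_add, mul_add]
  have e2 : ∑ᶠ q : ℤ, sgn q * (len A (Ker a (KH l M (q + 1))) : ℤ) =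
      -∑ᶠ q : ℤ, sgn q * (len A (Ker a (KH l M q)) : ℤ) := by
    rw [← finsum_neg_distrib, ← finsum_comp_equiv (Equiv.addRight (1 : ℤ))
      (f := fun q => -(sgn q * (len A (Ker a (KH l M q)) : ℤ)))]
    refine finsum_congr fun q => ?_
    show _ = -(sgn (q + 1) * _)
    rw [sgn_add_one, neg_mul, neg_neg]
    rfl
  rw [e1, e2, ← sub_eq_add_neg, ← finsum_sub_distrib
    (fin _ 0 fun q hq => by rw [add_zero] at hq; simp [(hz q hq).1])
    (fin _ 0 fun q hq => by rw [add_zero] at hq; simp [(hz q hq).2])]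
  exact finsum_congr fun q => by rw [emul, mul_sub]

theorem chi_mul {x y : A} {l : List A} {M : Type u} [AddCommGroup M] [Module A M] [Module.Finite A M]
    (hx : Good (x :: l) M) (hy : Good (y :: l) M) :
    chi ((x * y) :: l) M = chi (x :: l) M + chi (y :: l) M := by
  have hxy : Good ((x * y) :: l) M := by
    refine (le_inf hx hy).trans ?_
    rw [← Ideal.radical_mul]
    refine Ideal.radical_mono ?_
    simp only [Ideal.ofList_cons, sup_assoc]
    refine Ideal.mul_le.2 fun r hr s hs => ?_
    obtain ⟨r1, hr1, r2, hr2, rfl⟩ := Submodule.mem_sup.1 hr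
    obtain ⟨s1, hs1, s2, hs2, rfl⟩ := Submodule.mem_sup.1 hs
    obtain ⟨c, rfl⟩ := Ideal.mem_span_singleton'.1 hr1
    obtain ⟨d, rfl⟩ := Ideal.mem_span_singleton'.1 hs1
    rw [show (c * x + r2) * (d * y + s2) = c * d * (x * y) + (c * x * s2 + r2 * (d * y + s2)) by ring]
    exact Submodule.add_mem_sup (Ideal.mem_span_singleton'.2 ⟨_, rfl⟩)
      (add_mem (Ideal.mul_mem_left _ _ hs2) (Ideal.mul_mem_right _ _ hr2))
  rw [chi_cons hxy, chi_cons hx, chi_cons hy]
  have fin : ∀ a : A, (Function.support fun q => sgn q * emul a (KH l M q)).Finite := fun a => by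
    refine (Set.finite_Icc (-(l.length : ℤ)) 0).subset fun q hq => ?_
    rw [Set.mem_Icc]
    by_contra hcon
    haveI := subsingleton_KH l M q (by omega)
    exact hq (by simp [emul, len_subsingleton])
  rw [← finsum_add_distrib (fin x) (fin y)]
  refine finsum_congr fun q => ?_
  rw [emul_mul x y _ (fl_ker hx q) (fl_ker hy q) (fl_ker hxy q) (fl_cons_parts hx q).1 (fl_cons_parts hxy q).1,
    mul_add]

theorem chi_cons_zero {a : A} {l : List A} {M : Type u} [AddCommGroup M] [Module A M] [Module.Finite A M]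
    (h : Good (a :: l) M) (he : ∀ q (z : KH l M q), a • z = 0) : chi (a :: l) M = 0 := by
  rw [chi_cons h]
  exact finsum_eq_zero_of_forall_eq_zero fun q => by rw [emul_of_eq_zero (he q), mul_zero]

theorem exists_les {M₁ M₂ M₃ : Type u} [AddCommGroup M₁] [Module A M₁] [AddCommGroup M₂] [Module A M₂]
    [AddCommGroup M₃] [Module A M₃] (f : M₁ →ₗ[A] M₂) (g : M₂ →ₗ[A] M₃) (hf : Function.Injective f)
    (hg : Function.Surjective g) (he : Function.Exact f g) (l : List A) (q : ℤ) :
    ∃ (δ' : KH l M₃ (q - 1) →ₗ[A] KH l M₁ q) (i : KH l M₁ q →ₗ[A] KH l M₂ q)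
      (p : KH l M₂ q →ₗ[A] KH l M₃ q) (δ : KH l M₃ q →ₗ[A] KH l M₁ (q + 1)),
      i = (HomologicalComplex.homologyMap (Koszul15.kmap (ModuleCat.ofHom f) l) q).hom ∧
      Function.Exact δ' i ∧ Function.Exact i p ∧ Function.Exact p δ ∧
      LinearMap.range δ = LinearMap.ker
        (HomologicalComplex.homologyMap (Koszul15.kmap (ModuleCat.ofHom f) l) (q + 1)).hom := by
  have hz : ModuleCat.ofHom f ≫ ModuleCat.ofHom g = 0 := by ext x; exact he.apply_apply_eq_zero x
  have hS : (ShortComplex.mk _ _ hz).ShortExact :=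
    { exact := (ShortComplex.ShortExact.moduleCat_exact_iff_function_exact _).2 he
      mono_f := (ModuleCat.mono_iff_injective _).2 hf
      epi_g := (ModuleCat.epi_iff_surjective _).2 hg }
  obtain ⟨hz', hK⟩ := Koszul15.kmap_shortExact _ _ hz hS l
  have x1 := (ShortComplex.ShortExact.moduleCat_exact_iff_function_exact _).1
    (hK.homology_exact₁ (q - 1) q (sub_add_cancel q 1))
  have x2 := (ShortComplex.ShortExact.moduleCat_exact_iff_function_exact _).1 (hK.homology_exact₂ q)
  have x3 := (ShortComplex.ShortExact.moduleCat_exact_iff_function_exact _).1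
    (hK.homology_exact₃ q (q + 1) rfl)
  have x4 := (ShortComplex.ShortExact.moduleCat_exact_iff_function_exact _).1
    (hK.homology_exact₁ q (q + 1) rfl)
  exact ⟨(hK.δ (q - 1) q (sub_add_cancel q 1)).hom, _,
    (HomologicalComplex.homologyMap (Koszul15.kmap (ModuleCat.ofHom g) l) q).hom,
    (hK.δ q (q + 1) rfl).hom, rfl, x1, x2, x3, (LinearMap.exact_iff.1 x4).symm⟩

theorem ann_le {M₁ M₂ M₃ : Type u} [AddCommGroup M₁] [Module A M₁] [AddCommGroup M₂] [Module A M₂]
    [AddCommGroup M₃] [Module A M₃] (f : M₁ →ₗ[A] M₂) (g : M₂ →ₗ[A] M₃) (hf : Function.Injective f)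
    (hg : Function.Surjective g) :
    Module.annihilator A M₂ ≤ Module.annihilator A M₁ ∧
      Module.annihilator A M₂ ≤ Module.annihilator A M₃ :=
  ⟨LinearMap.annihilator_le_of_injective f hf, LinearMap.annihilator_le_of_surjective g hg⟩

theorem hl_le {M₁ M₂ M₃ : Type u} [AddCommGroup M₁] [Module A M₁] [AddCommGroup M₂] [Module A M₂]
    [AddCommGroup M₃] [Module A M₃] [Module.Finite A M₁] [Module.Finite A M₂] [Module.Finite A M₃]
    (f : M₁ →ₗ[A] M₂) (g : M₂ →ₗ[A] M₃) (hf : Function.Injective f)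
    (hg : Function.Surjective g) (he : Function.Exact f g) (l : List A) (h : Good l M₂) (q : ℤ) :
    hl l M₂ q ≤ hl l M₁ q + hl l M₃ q := by
  obtain ⟨δ', i, p, δ, -, -, h2, -, -⟩ := exists_les f g hf hg he l q
  exact len_le i p h2 (fl_KH (h.mono (ann_le f g hf hg).1) q) (fl_KH h q)
    (fl_KH (h.mono (ann_le f g hf hg).2) q)

theorem chi_add {M₁ M₂ M₃ : Type u} [AddCommGroup M₁] [Module A M₁] [AddCommGroup M₂] [Module A M₂]
    [AddCommGroup M₃] [Module A M₃] [Module.Finite A M₁] [Module.Finite A M₂] [Module.Finite A M₃]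
    (f : M₁ →ₗ[A] M₂) (g : M₂ →ₗ[A] M₃) (hf : Function.Injective f)
    (hg : Function.Surjective g) (he : Function.Exact f g) (l : List A) (h : Good l M₂) :
    chi l M₂ = chi l M₁ + chi l M₃ := by
  have h1 := h.mono (ann_le f g hf hg).1
  have h3 := h.mono (ann_le f g hf hg).2
  let I : ℤ → ℕ := fun q => len A (LinearMap.ker
    (HomologicalComplex.homologyMap (Koszul15.kmap (ModuleCat.ofHom f) l) q).hom)
  have key : ∀ q, hl l M₁ q + hl l M₃ q = hl l M₂ q + I q + I (q + 1) := fun q => by
    obtain ⟨δ', i, p, δ, hi, e1, e2, e3, e4⟩ := exists_les f g hf hg he l q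
    have a1 := len_range_add_range δ' i e1 (fl_KH h1 q)
    have a2 := len_range_add_range i p e2 (fl_KH h q)
    have a3 := len_range_add_range p δ e3 (fl_KH h3 q)
    have b1 : len A (LinearMap.range δ') = I q := by
      rw [show LinearMap.range δ' = LinearMap.ker i from (LinearMap.exact_iff.1 e1).symm, hi]
    have b4 : len A (LinearMap.range δ) = I (q + 1) := by rw [e4]
    unfold hl at *
    omega
  have fI : (Function.support fun q => sgn q * (I q : ℤ)).Finite := by
    refine (Set.finite_Icc (-(l.length : ℤ)) 0).subset fun q hq => ?_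
    rw [Set.mem_Icc]
    by_contra hcon
    haveI := subsingleton_KH l M₁ q (by omega)
    exact hq (by simp [I, len_subsingleton])
  have fI' : (Function.support fun q => sgn q * (I (q + 1) : ℤ)).Finite := by
    refine (Set.finite_Icc (-(l.length : ℤ) - 1) (-1)).subset fun q hq => ?_
    rw [Set.mem_Icc]
    by_contra hcon
    haveI := subsingleton_KH l M₁ (q + 1) (by omega)
    exact hq (by simp [I, len_subsingleton])
  have f1 := support_finite l M₁ sgn 0
  have f2 := support_finite l M₂ sgn 0
  have f3 := support_finite l M₃ sgn 0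
  simp only [add_zero] at f1 f2 f3
  have e : ∑ᶠ q : ℤ, sgn q * (I (q + 1) : ℤ) = -∑ᶠ q : ℤ, sgn q * (I q : ℤ) := by
    rw [← finsum_neg_distrib, ← finsum_comp_equiv (Equiv.addRight (1 : ℤ))
      (f := fun q => -(sgn q * (I q : ℤ)))]
    refine finsum_congr fun q => ?_
    show _ = -(sgn (q + 1) * _)
    rw [sgn_add_one, neg_mul, neg_neg]
    rfl
  have tot : chi l M₁ + chi l M₃ = chi l M₂ + ∑ᶠ q : ℤ, sgn q * (I q : ℤ) + ∑ᶠ q : ℤ, sgn q * (I (q + 1) : ℤ) := by
    unfold chi
    rw [← finsum_add_distrib f1 f3, ← finsum_add_distrib f2 fI,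
      ← finsum_add_distrib ((f2.union fI).subset (Function.support_add _ _)) fI']
    refine finsum_congr fun q => ?_
    have := congrArg (fun n : ℕ => sgn q * (n : ℤ)) (key q)
    simpa [mul_add] using this
  rw [tot, e]
  ring

theorem hl_cons_of_regular {a : A} {l : List A} {N : Type u} [AddCommGroup N] [Module A N]
    [Module.Finite A N] (h : Good (a :: l) N) (hreg : IsSMulRegular N a) (q : ℤ) :
    hl (a :: l) N q = hl l (QuotSMulTop a N) q := by
  have hex : Function.Exact (LinearMap.lsmul A N a) (Submodule.mkQ (a • (⊤ : Submodule A N))) := fun x => by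
    refine ⟨fun hx => ?_, ?_⟩
    · obtain ⟨y, -, hy⟩ := Submodule.mem_map.1 ((Submodule.Quotient.mk_eq_zero _).1 hx)
      exact ⟨y, hy⟩
    · rintro ⟨y, rfl⟩
      exact (Submodule.Quotient.mk_eq_zero _).2 (Submodule.smul_mem_pointwise_smul y a ⊤ trivial)
  have hgood : Good l (QuotSMulTop a N) := by
    refine h.trans (Ideal.radical_mono ?_)
    rw [Ideal.ofList_cons]
    refine sup_le (sup_le ((Ideal.span_singleton_le_iff_mem _).2 (Ideal.mem_sup_right ?_)) le_sup_left)
      (le_sup_of_le_right (LinearMap.annihilator_le_of_surjective (Submodule.mkQ _) (Submodule.mkQ_surjective _)))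
    refine Module.mem_annihilator.2 fun z => ?_
    obtain ⟨z, rfl⟩ := Submodule.mkQ_surjective _ z
    exact (map_smul _ a z).symm.trans
      ((Submodule.Quotient.mk_eq_zero _).2 (Submodule.smul_mem_pointwise_smul z a ⊤ trivial))
  obtain ⟨δ', i, p, δ, hi, e1, e2, e3, e4⟩ := exists_les (LinearMap.lsmul A N a) (Submodule.mkQ _) hreg
    (Submodule.mkQ_surjective _) hex l q
  have hmap : ∀ j, (HomologicalComplex.homologyMap
      (Koszul15.kmap (ModuleCat.ofHom (LinearMap.lsmul A N a)) l) j).hom =
      LinearMap.lsmul A (KH l N j) a := fun j => by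
    ext z
    rw [show ModuleCat.ofHom (LinearMap.lsmul A N a) = a • 𝟙 (ModuleCat.of A N) from rfl,
      Koszul15.kmap_smul]
    exact homologyMap_smul_id _ a j z
  rw [(fl_cons_parts h q).2.2]
  refine ((len_middle (X := KH l (QuotSMulTop a N) q) a p δ ?_ e3 ?_ (fl_KH hgood q)).2.2).symm
  · rw [LinearMap.exact_iff.1 e2, hi, hmap]
  · rw [e4, hmap]

theorem chi_cons_of_regular {a : A} {l : List A} {N : Type u} [AddCommGroup N] [Module A N]
    [Module.Finite A N] (h : Good (a :: l) N) (hreg : IsSMulRegular N a) :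
    chi (a :: l) N = chi l (QuotSMulTop a N) :=
  finsum_congr fun q => by rw [hl_cons_of_regular h hreg q]

end Groth.Agent.H1KoszulEuler
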