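import Groth.Agent.H1KoszulEuler.Chi

/-! Dévissage: Euler characteristic, positivity, powers and growth. -/

universe u

open IsLocalRing
open scoped Pointwise

namespace Groth.Agent.H1KoszulEuler

variable {A : Type u} [CommRing A] [IsNoetherianRing A] [IsLocalRing A]

/-- The properties of `A/p` used in dévissage. -/
structure PrimeLike (p : Ideal A) (N : Type u) [AddCommGroup N] [Module A N] : Prop where
  prime : p.IsPrime
  ann : Module.annihilator A N = p
  reg : ∀ a : A, a ∉ p → IsSMulRegular N a

theorem primeLike_of_equiv (N : Type u) [AddCommGroup N] [Module A N] (p : PrimeSpectrum A)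
    (e : N ≃ₗ[A] A ⧸ p.1) : PrimeLike p.1 N where
  prime := p.2
  ann := by rw [e.annihilator_eq, Ideal.annihilator_quotient]
  reg a ha := fun x y h => e.injective (by
    have h' : a • e x = a • e y := by rw [← map_smul, ← map_smul]; exact congrArg e h
    obtain ⟨x', hx⟩ := Ideal.Quotient.mk_surjective (e x)
    obtain ⟨y', hy⟩ := Ideal.Quotient.mk_surjective (e y)
    rw [← hx, ← hy] at h' ⊢
    have h'' : Ideal.Quotient.mk p.1 (a * x') = Ideal.Quotient.mk p.1 (a * y') := h'
    rw [Ideal.Quotient.eq, ← mul_sub] at h''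
    exact Ideal.Quotient.eq.2 ((p.2.mem_or_mem h'').resolve_left ha))

theorem PrimeLike.smul_eq_zero {p : Ideal A} {N : Type u} [AddCommGroup N] [Module A N]
    (h : PrimeLike p N) {a : A} (ha : a ∈ p) (z : N) : a • z = 0 :=
  Module.mem_annihilator.1 (h.ann.symm ▸ ha) z

theorem smul_KH_of_ann (l : List A) (N : Type u) [AddCommGroup N] [Module A N] {a : A}
    (ha : a ∈ Module.annihilator A N) (q : ℤ) (z : KH l N q) : a • z = 0 :=
  smul_KH_eq_zero l N q (Ideal.mem_sup_right ha) z

omit [IsNoetherianRing A] in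
theorem ann_quotSMulTop (a : A) (N : Type u) [AddCommGroup N] [Module A N] :
    Module.annihilator A N ⊔ Ideal.span {a} ≤ Module.annihilator A (QuotSMulTop a N) := by
  refine sup_le (LinearMap.annihilator_le_of_surjective (Submodule.mkQ _) (Submodule.mkQ_surjective _))
    ((Ideal.span_singleton_le_iff_mem _).2 (Module.mem_annihilator.2 fun z => ?_))
  obtain ⟨z, rfl⟩ := Submodule.mkQ_surjective _ z
  exact (map_smul _ a z).symm.trans
    ((Submodule.Quotient.mk_eq_zero _).2 (Submodule.smul_mem_pointwise_smul z a ⊤ trivial))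

theorem Good.tail {a : A} {l : List A} {N N' : Type u} [AddCommGroup N] [Module A N]
    [AddCommGroup N'] [Module A N'] (h : Good (a :: l) N)
    (hN : Module.annihilator A N ⊔ Ideal.span {a} ≤ Module.annihilator A N') : Good l N' := by
  refine h.trans (Ideal.radical_mono ?_)
  rw [Ideal.ofList_cons]
  exact sup_le (sup_le ((le_sup_right.trans hN).trans le_sup_right) le_sup_left)
    ((le_sup_left.trans hN).trans le_sup_right)

theorem Good.of_radical {l l' : List A} {N : Type u} [AddCommGroup N] [Module A N]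
    (h : Good l N) (hle : Ideal.ofList l ≤ (Ideal.ofList l').radical) : Good l' N :=
  h.trans (Ideal.radical_le_radical_iff.2 (sup_le (hle.trans (Ideal.radical_mono le_sup_left))
    (le_sup_right.trans Ideal.le_radical)))

theorem chi_subsingleton (l : List A) (N : Type u) [AddCommGroup N] [Module A N] [Module.Finite A N]
    [Subsingleton N] (h : Good l N) : chi l N = 0 := by
  have := chi_add (LinearMap.id : N →ₗ[A] N) (0 : N →ₗ[A] N) Function.injective_id
    (fun y => ⟨y, Subsingleton.elim _ _⟩) (fun x => ⟨fun _ => ⟨x, rfl⟩, fun _ => Subsingleton.elim _ _⟩) l h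
  omega

theorem chi_congr (l : List A) {N N' : Type u} [AddCommGroup N] [Module A N] [Module.Finite A N]
    [AddCommGroup N'] [Module A N'] [Module.Finite A N'] (e : N ≃ₗ[A] N') (h : Good l N) :
    chi l N = chi l N' := by
  have hs := chi_add (0 : PUnit.{u + 1} →ₗ[A] N) e.toLinearMap (fun _ _ _ => Subsingleton.elim _ _)
    e.surjective (fun x => by
      refine ⟨fun hx => ⟨PUnit.unit, ?_⟩, ?_⟩
      · exact (e.map_eq_zero_iff.1 hx).symm
      · rintro ⟨_, rfl⟩; exact map_zero e) l h
  rw [chi_subsingleton l PUnit (h.mono (LinearMap.annihilator_le_of_surjective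
    (0 : N →ₗ[A] PUnit.{u + 1}) (fun y => ⟨0, Subsingleton.elim _ _⟩))), zero_add] at hs
  exact hs

/-- Dévissage for modules carrying `Good l`. -/
theorem devissage (l : List A)
    {P : (N : Type u) → [AddCommGroup N] → [Module A N] → [Module.Finite A N] → Prop}
    (hsub : ∀ (N : Type u) [AddCommGroup N] [Module A N] [Module.Finite A N] [Subsingleton N],
      Good l N → P N)
    (hprime : ∀ (N : Type u) [AddCommGroup N] [Module A N] [Module.Finite A N] (p : PrimeSpectrum A),
      (N ≃ₗ[A] A ⧸ p.1) → PrimeLike p.1 N → Good l N → P N)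
    (hexact : ∀ (N₁ : Type u) [AddCommGroup N₁] [Module A N₁] [Module.Finite A N₁]
      (N₂ : Type u) [AddCommGroup N₂] [Module A N₂] [Module.Finite A N₂]
      (N₃ : Type u) [AddCommGroup N₃] [Module A N₃] [Module.Finite A N₃]
      (f : N₁ →ₗ[A] N₂) (g : N₂ →ₗ[A] N₃), Function.Injective f → Function.Surjective g →
      Function.Exact f g → Good l N₂ → P N₁ → P N₃ → P N₂)
    (M : Type u) [AddCommGroup M] [Module A M] [hM : Module.Finite A M] (h : Good l M) : P M := by
  revert h
  refine IsNoetherianRing.induction_on_isQuotientEquivQuotientPrime A hM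
    (motive := fun N _ _ _ => Good l N → P N) ?_ ?_ ?_
  · intro N _ _ _ _ h; exact hsub N h
  · intro N _ _ _ p e h; exact hprime N p e (primeLike_of_equiv N p e) h
  · intro N₁ _ _ _ N₂ _ _ _ N₃ _ _ _ f g hf hg he h1 h3 h
    exact hexact N₁ N₂ N₃ f g hf hg he h (h1 (h.mono (ann_le f g hf hg).1)) (h3 (h.mono (ann_le f g hf hg).2))

end Groth.Agent.H1KoszulEuler
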