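import Groth.Agent.H1KoszulEuler.Theorems

/-! Growth of Koszul homology of powers. -/

universe u

open IsLocalRing
open scoped Pointwise

namespace Groth.Agent.H1KoszulEuler

variable {A : Type u} [CommRing A] [IsNoetherianRing A] [IsLocalRing A]

/-- The powers of a list. -/
def pw (l : List A) (n : ℕ) : List A := l.map (· ^ n)

omit [IsNoetherianRing A] [IsLocalRing A] in
theorem ofList_le_pw (l : List A) (n : ℕ) : Ideal.ofList l ≤ (Ideal.ofList (pw l n)).radical :=
  Ideal.span_le.2 fun x hx => ⟨n, Ideal.subset_span (List.mem_map.2 ⟨x, hx, rfl⟩)⟩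

theorem Good.pw {l : List A} {N : Type u} [AddCommGroup N] [Module A N] (h : Good l N) (n : ℕ) :
    Good (pw l n) N := h.of_radical (ofList_le_pw l n)

theorem good_cons_pw {a : A} {l : List A} {N : Type u} [AddCommGroup N] [Module A N]
    (h : Good (a :: l) N) (n : ℕ) : Good (a :: H1KoszulEuler.pw l n) N := by
  refine h.of_radical ?_
  rw [Ideal.ofList_cons, Ideal.ofList_cons]
  exact sup_le (le_sup_left.trans Ideal.le_radical)
    ((ofList_le_pw l n).trans (Ideal.radical_mono le_sup_right))

theorem hl_pw_of_regular {a : A} {l' : List A} {N : Type u} [AddCommGroup N] [Module A N] [Module.Finite A N]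
    (h : Good (a :: l') N) (hreg : IsSMulRegular N a) (q : ℤ) :
    ∀ n : ℕ, hl l' (QuotSMulTop (a ^ n) N) q ≤ n * hl l' (QuotSMulTop a N) q
  | 0 => by
    haveI : Subsingleton (QuotSMulTop (a ^ 0) N) := by
      rw [Submodule.Quotient.subsingleton_iff, pow_zero, one_smul]
    rw [hl_of_subsingleton]
    exact Nat.zero_le _
  | n + 1 => by
    have hg : Good l' (QuotSMulTop (a ^ (n + 1)) N) := (good_of_powers h (n + 1)).tail (ann_quotSMulTop _ N)
    let f : QuotSMulTop a N →ₗ[A] QuotSMulTop (a ^ (n + 1)) N :=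
      Submodule.mapQ _ _ (LinearMap.lsmul A N (a ^ n)) (fun x hx => by
        obtain ⟨y, -, rfl⟩ := Submodule.mem_map.1 hx
        show a ^ n • a • y ∈ a ^ (n + 1) • (⊤ : Submodule A N)
        rw [← mul_smul, ← pow_succ]
        exact Submodule.smul_mem_pointwise_smul y _ ⊤ trivial)
    let g : QuotSMulTop (a ^ (n + 1)) N →ₗ[A] QuotSMulTop (a ^ n) N := Submodule.factor (fun x hx => by
      obtain ⟨y, -, rfl⟩ := Submodule.mem_map.1 hx
      show a ^ (n + 1) • y ∈ a ^ n • (⊤ : Submodule A N)
      rw [pow_succ, mul_smul]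
      exact Submodule.smul_mem_pointwise_smul _ _ ⊤ trivial)
    have hf : Function.Injective f := by
      rw [injective_iff_map_eq_zero]
      intro z hz
      obtain ⟨z, rfl⟩ := Submodule.Quotient.mk_surjective _ z
      obtain ⟨y, -, hy⟩ := Submodule.mem_map.1 ((Submodule.Quotient.mk_eq_zero _).1 hz)
      refine (Submodule.Quotient.mk_eq_zero _).2 ?_
      have hy' : a ^ n • (a • y) = a ^ n • z := by
        rw [← mul_smul, ← pow_succ]; exact hy
      rw [← (hreg.pow n) hy']
      exact Submodule.smul_mem_pointwise_smul y a ⊤ trivial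
    have hg' : Function.Surjective g := Submodule.factor_surjective _
    have hex : Function.Exact f g := fun z => by
      constructor
      · intro hz
        obtain ⟨z, rfl⟩ := Submodule.Quotient.mk_surjective _ z
        obtain ⟨y, -, hy⟩ := Submodule.mem_map.1 ((Submodule.Quotient.mk_eq_zero _).1 hz)
        exact ⟨Submodule.Quotient.mk y, congrArg Submodule.Quotient.mk hy⟩
      · rintro ⟨w, rfl⟩
        obtain ⟨w, rfl⟩ := Submodule.Quotient.mk_surjective _ w
        exact (Submodule.Quotient.mk_eq_zero _).2 (Submodule.smul_mem_pointwise_smul w _ ⊤ trivial)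
    refine (hl_le f g hf hg' hex l' hg q).trans ?_
    rw [Nat.succ_mul, Nat.add_comm (n * _)]
    exact Nat.add_le_add_left (hl_pw_of_regular h hreg q n) _

theorem hl_cons_of_zero {b : A} {l' : List A} {N : Type u} [AddCommGroup N] [Module A N] [Module.Finite A N]
    (h : Good (b :: l') N) (hb : b ∈ Module.annihilator A N) (q : ℤ) :
    hl (b :: l') N q = hl l' N q + hl l' N (q + 1) := by
  rw [(fl_cons_parts h q).2.2, (len_cok_of_zero (smul_KH_of_ann l' N hb q)).1,
    (len_cok_of_zero (smul_KH_of_ann l' N hb (q + 1))).2]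
  rfl

theorem growth_k : ∀ (l : List A) (M : Type u) [AddCommGroup M] [Module A M] [Module.Finite A M],
    Good l M → ∀ i : ℕ, i ≤ l.length →
      ∃ c : ℕ, ∀ n : ℕ, 0 < n → hl (pw l n) M (-(i : ℤ)) ≤ c * n ^ (l.length - i)
  | [], M, _, _, _, _, i, hi => ⟨hl ([] : List A) M (-(i : ℤ)), fun n _ => by
      rw [show ([] : List A).length - i = 0 by simp, pow_zero, mul_one]; rfl⟩
  | a :: l, M, _, _, _, h, i, hi => by
    revert i
    refine devissage (a :: l) (P := fun N _ _ _ => ∀ i : ℕ, i ≤ (a :: l).length →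
      ∃ c : ℕ, ∀ n : ℕ, 0 < n → hl (pw (a :: l) n) N (-(i : ℤ)) ≤ c * n ^ ((a :: l).length - i)) ?_ ?_ ?_ M h
    · intro N _ _ _ _ _ i _
      exact ⟨0, fun n _ => by rw [hl_of_subsingleton]; exact Nat.zero_le _⟩
    · intro N _ _ _ p _ hp hN i hi
      rw [List.length_cons] at hi
      have hpw : ∀ n, pw (a :: l) n = a ^ n :: pw l n := fun n => rfl
      have hlen : ∀ n, (pw l n).length = l.length := fun n => List.length_map _
      by_cases ha : a ∈ p.1
      · have hann : Ideal.span {a} ≤ Module.annihilator A N :=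
          (Ideal.span_singleton_le_iff_mem _).2 (hp.ann.symm ▸ ha)
        have hl0 : Good l N := hN.tail (sup_le le_rfl hann)
        have hgood : ∀ n, Good (a ^ n :: pw l n) N := fun n => good_of_powers (good_cons_pw hN n) n
        have hann' : ∀ n, 0 < n → a ^ n ∈ Module.annihilator A N := fun n hn =>
          Ideal.pow_mem_of_mem _ (hp.ann.symm ▸ ha) n hn
        rcases i with _ | i
        · obtain ⟨c, hc⟩ := growth_k l N hl0 0 (Nat.zero_le _)
          refine ⟨c, fun n hn => ?_⟩
          rw [hpw, hl_cons_of_zero (hgood n) (hann' n hn), hl_eq_zero _ N (-((0 : ℕ) : ℤ) + 1) (by simp),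
            add_zero, List.length_cons]
          exact (hc n hn).trans (Nat.mul_le_mul_left _ (Nat.pow_le_pow_right hn (by omega)))
        · obtain ⟨c, hc⟩ := growth_k l N hl0 i (by omega)
          by_cases hi' : i + 1 ≤ l.length
          · obtain ⟨c', hc'⟩ := growth_k l N hl0 (i + 1) hi'
            refine ⟨c' + c, fun n hn => ?_⟩
            rw [hpw, hl_cons_of_zero (hgood n) (hann' n hn), List.length_cons,
              show -((i + 1 : ℕ) : ℤ) + 1 = -(i : ℤ) by omega, add_mul]
            exact Nat.add_le_add ((hc' n hn).trans (Nat.mul_le_mul_left _ (Nat.pow_le_pow_right hn (by omega))))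
              ((hc n hn).trans (le_of_eq (by rw [show l.length + 1 - (i + 1) = l.length - i by omega])))
          · refine ⟨c, fun n hn => ?_⟩
            rw [hpw, hl_cons_of_zero (hgood n) (hann' n hn), List.length_cons,
              hl_eq_zero _ N (-((i + 1 : ℕ) : ℤ)) (by rw [hlen]; omega), zero_add,
              show -((i + 1 : ℕ) : ℤ) + 1 = -(i : ℤ) by omega]
            exact (hc n hn).trans (le_of_eq (by rw [show l.length + 1 - (i + 1) = l.length - i by omega]))
      · have hreg := hp.reg a ha
        by_cases hi' : i ≤ l.length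
        · obtain ⟨c, hc⟩ := growth_k l (QuotSMulTop a N) (hN.tail (ann_quotSMulTop a N)) i hi'
          refine ⟨c, fun n hn => ?_⟩
          rw [hpw, hl_cons_of_regular (good_of_powers (good_cons_pw hN n) n) (hreg.pow n), List.length_cons,
            show l.length + 1 - i = (l.length - i) + 1 by omega, pow_succ, ← mul_assoc, mul_comm (c * _) n]
          exact (hl_pw_of_regular (good_cons_pw hN n) hreg _ n).trans (Nat.mul_le_mul_left _ (hc n hn))
        · refine ⟨0, fun n hn => ?_⟩
          rw [hpw, hl_cons_of_regular (good_of_powers (good_cons_pw hN n) n) (hreg.pow n),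
            hl_eq_zero _ _ _ (by rw [hlen]; omega)]
          exact Nat.zero_le _
    · intro N₁ _ _ _ N₂ _ _ _ N₃ _ _ _ f g hf hg he hN h1 h3 i hi
      obtain ⟨c1, hc1⟩ := h1 i hi
      obtain ⟨c3, hc3⟩ := h3 i hi
      refine ⟨c1 + c3, fun n hn => (hl_le f g hf hg he _ (hN.pw n) _).trans ?_⟩
      rw [add_mul]
      exact Nat.add_le_add (hc1 n hn) (hc3 n hn)

theorem growth_d : ∀ (l : List A), (∀ a ∈ l, a ∈ maximalIdeal A) → ∀ (d : ℕ) (M : Type u) [AddCommGroup M]
    [Module A M] [Module.Finite A M], Good l M → Module.supportDim A M ≤ (d : WithBot ℕ∞) →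
      ∀ q : ℤ, ∃ c : ℕ, ∀ n : ℕ, 0 < n → hl (pw l n) M q ≤ c * n ^ d
  | [], _, d, M, _, _, _, _, _, q => ⟨hl ([] : List A) M q, fun n hn =>
      Nat.le_mul_of_pos_right _ (pow_pos hn d)⟩
  | a :: l, hl', d, M, _, _, _, h, hd, q => by
    revert q hd
    refine devissage (a :: l) (P := fun N _ _ _ => Module.supportDim A N ≤ (d : WithBot ℕ∞) →
      ∀ q : ℤ, ∃ c : ℕ, ∀ n : ℕ, 0 < n → hl (pw (a :: l) n) N q ≤ c * n ^ d) ?_ ?_ ?_ M h
    · intro N _ _ _ _ _ _ q
      exact ⟨0, fun n _ => by rw [hl_of_subsingleton]; exact Nat.zero_le _⟩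
    · intro N _ _ _ p e hp hN hd q
      have hl'' : ∀ b ∈ l, b ∈ maximalIdeal A := fun b hb => hl' b (List.mem_cons_of_mem _ hb)
      have hpw : ∀ n, pw (a :: l) n = a ^ n :: pw l n := fun n => rfl
      by_cases ha : a ∈ p.1
      · have hann : Ideal.span {a} ≤ Module.annihilator A N :=
          (Ideal.span_singleton_le_iff_mem _).2 (hp.ann.symm ▸ ha)
        have hl0 : Good l N := hN.tail (sup_le le_rfl hann)
        obtain ⟨c, hc⟩ := growth_d l hl'' d N hl0 hd q
        obtain ⟨c', hc'⟩ := growth_d l hl'' d N hl0 hd (q + 1)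
        refine ⟨c + c', fun n hn => ?_⟩
        rw [hpw, hl_cons_of_zero (good_of_powers (good_cons_pw hN n) n)
          (Ideal.pow_mem_of_mem _ (hp.ann.symm ▸ ha) n hn), add_mul]
        exact Nat.add_le_add (hc n hn) (hc' n hn)
      · have hreg := hp.reg a ha
        have hdim := dim_quot hreg (hl' a List.mem_cons_self)
        rcases d with _ | d
        · rcases subsingleton_or_nontrivial N with hs | hn
          · exact ⟨0, fun n _ => by rw [hl_of_subsingleton]; exact Nat.zero_le _⟩
          · haveI : Nontrivial (QuotSMulTop a N) := Submodule.Quotient.nontrivial_iff.2 fun htop =>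
              (not_subsingleton N) (by
                have := Submodule.eq_bot_of_le_smul_of_le_jacobson_bot (Ideal.span {a}) (⊤ : Submodule A N)
                  Module.Finite.fg_top (by rw [Submodule.ideal_span_singleton_smul]; exact htop.ge)
                  (((Ideal.span_singleton_le_iff_mem _).2 (hl' a List.mem_cons_self)).trans
                    (IsLocalRing.maximalIdeal_le_jacobson _))
                exact (Submodule.subsingleton_iff A).1 (subsingleton_of_top_le_bot this.le))
            rw [← hdim] at hd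
            have h0 : (0 : WithBot ℕ∞) ≤ Module.supportDim A (QuotSMulTop a N) :=
              Order.krullDim_nonneg_iff.2 (Module.nonempty_support_of_nontrivial (R := A) (M := QuotSMulTop a N)).to_subtype
            exact absurd ((add_le_add h0 le_rfl).trans hd) (by simp)
        · obtain ⟨c, hc⟩ := growth_d l hl'' d (QuotSMulTop a N) (hN.tail (ann_quotSMulTop a N))
            (le_of_add_one_le (hdim.le.trans hd)) q
          refine ⟨c, fun n hn => ?_⟩
          rw [hpw, hl_cons_of_regular (good_of_powers (good_cons_pw hN n) n) (hreg.pow n), pow_succ,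
            ← mul_assoc, mul_comm (c * _) n]
          exact (hl_pw_of_regular (good_cons_pw hN n) hreg _ n).trans (Nat.mul_le_mul_left _ (hc n hn))
    · intro N₁ _ _ _ N₂ _ _ _ N₃ _ _ _ f g hf hg he hN h1 h3 hd q
      obtain ⟨c1, hc1⟩ := h1 ((Module.supportDim_le_of_injective f hf).trans hd) q
      obtain ⟨c3, hc3⟩ := h3 ((Module.supportDim_le_of_surjective g hg).trans hd) q
      refine ⟨c1 + c3, fun n hn => (hl_le f g hf hg he _ (hN.pw n) _).trans ?_⟩
      rw [add_mul]
      exact Nat.add_le_add (hc1 n hn) (hc3 n hn)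

end Groth.Agent.H1KoszulEuler
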