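import Mathlib
import Groth.Agent.AssLib.Basic

/-! Lengths (as naturals) in exact sequences, and the multiplicity of an endomorphism. -/

universe u v

namespace Groth.Agent.H1KoszulEuler

variable {A : Type u} [CommRing A]

/-- The length as a natural number. -/
noncomputable def len (A : Type u) [CommRing A] (N : Type v) [AddCommGroup N] [Module A N] : ℕ :=
  (Module.length A N).toNat

theorem coe_len {N : Type v} [AddCommGroup N] [Module A N] (h : IsFiniteLength A N) :
    (len A N : ℕ∞) = Module.length A N :=
  ENat.coe_toNat (Module.length_ne_top_iff.2 h)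

theorem len_subsingleton (N : Type v) [AddCommGroup N] [Module A N] [Subsingleton N] : len A N = 0 := by
  simp [len, Module.length_eq_zero_iff.2 ‹Subsingleton N›]

theorem len_congr {N : Type v} {N' : Type*} [AddCommGroup N] [Module A N] [AddCommGroup N'] [Module A N']
    (e : N ≃ₗ[A] N') : len A N = len A N' := by rw [len, len, e.length_eq]

theorem fl_of_injective {N P : Type v} [AddCommGroup N] [Module A N] [AddCommGroup P] [Module A P]
    (f : N →ₗ[A] P) (hf : Function.Injective f) (h : IsFiniteLength A P) : IsFiniteLength A N := by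
  rw [isFiniteLength_iff_isNoetherian_isArtinian] at h ⊢
  obtain ⟨_, _⟩ := h
  exact ⟨isNoetherian_of_injective f hf, isArtinian_of_injective f hf⟩

theorem fl_of_surjective {N P : Type v} [AddCommGroup N] [Module A N] [AddCommGroup P] [Module A P]
    (f : N →ₗ[A] P) (hf : Function.Surjective f) (h : IsFiniteLength A N) : IsFiniteLength A P := by
  rw [isFiniteLength_iff_isNoetherian_isArtinian] at h ⊢
  obtain ⟨_, _⟩ := h
  exact ⟨isNoetherian_of_surjective f (LinearMap.range_eq_top.2 hf), isArtinian_of_surjective N f hf⟩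

theorem len_range_add_range {X₁ X₂ X₃ : Type v} [AddCommGroup X₁] [Module A X₁] [AddCommGroup X₂]
    [Module A X₂] [AddCommGroup X₃] [Module A X₃] (f : X₁ →ₗ[A] X₂) (g : X₂ →ₗ[A] X₃)
    (h : Function.Exact f g) (h₂ : IsFiniteLength A X₂) :
    len A X₂ = len A (LinearMap.range f) + len A (LinearMap.range g) := by
  have he : Function.Exact (LinearMap.range f).subtype g.rangeRestrict := fun x => by
    refine ⟨fun hx => ⟨⟨x, (h x).1 (congrArg Subtype.val hx)⟩, rfl⟩, ?_⟩
    rintro ⟨y, rfl⟩
    exact Subtype.ext ((h _).2 y.2)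
  have e := Module.length_eq_add_of_exact _ _ (Submodule.injective_subtype _)
    g.surjective_rangeRestrict he
  have h1 := coe_len (fl_of_injective _ (LinearMap.range f).injective_subtype h₂)
  have h3 := coe_len (fl_of_surjective _ g.surjective_rangeRestrict h₂)
  rw [← coe_len h₂, ← h1, ← h3] at e
  exact_mod_cast e

theorem len_le {X₁ X₂ X₃ : Type v} [AddCommGroup X₁] [Module A X₁] [AddCommGroup X₂]
    [Module A X₂] [AddCommGroup X₃] [Module A X₃] (f : X₁ →ₗ[A] X₂) (g : X₂ →ₗ[A] X₃)
    (h : Function.Exact f g) (h₁ : IsFiniteLength A X₁) (h₂ : IsFiniteLength A X₂)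
    (h₃ : IsFiniteLength A X₃) : len A X₂ ≤ len A X₁ + len A X₃ := by
  rw [len_range_add_range f g h h₂]
  refine Nat.add_le_add ?_ ?_
  · exact ENat.toNat_le_toNat (Module.length_le_of_surjective f.rangeRestrict f.surjective_rangeRestrict)
      (Module.length_ne_top_iff.2 h₁)
  · exact ENat.toNat_le_toNat (Module.length_le_of_injective _ (LinearMap.range g).injective_subtype)
      (Module.length_ne_top_iff.2 h₃)

theorem len_range_of_injective {N P : Type v} [AddCommGroup N] [Module A N] [AddCommGroup P] [Module A P]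
    (f : N →ₗ[A] P) (hf : Function.Injective f) : len A (LinearMap.range f) = len A N :=
  len_congr (LinearEquiv.ofInjective f hf).symm

theorem len_range_of_surjective {N P : Type v} [AddCommGroup N] [Module A N] [AddCommGroup P] [Module A P]
    (f : N →ₗ[A] P) (hf : Function.Surjective f) : len A (LinearMap.range f) = len A P :=
  len_congr (LinearEquiv.ofTop _ (LinearMap.range_eq_top.2 hf))

/-- `H / a H`. -/
abbrev Cok (a : A) (H : Type v) [AddCommGroup H] [Module A H] : Type v :=
  H ⧸ LinearMap.range (LinearMap.lsmul A H a)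

/-- The elements of `H` killed by `a`. -/
abbrev Ker (a : A) (H : Type v) [AddCommGroup H] [Module A H] : Submodule A H :=
  LinearMap.ker (LinearMap.lsmul A H a)

/-- The multiplicity of `a` on `H`. -/
noncomputable def emul (a : A) (H : Type v) [AddCommGroup H] [Module A H] : ℤ :=
  (len A (Cok a H) : ℤ) - len A (Ker a H)

theorem emul_of_bijective {a : A} {H : Type v} [AddCommGroup H] [Module A H]
    (h : Function.Bijective (fun z : H => a • z)) : emul a H = 0 := by
  haveI : Subsingleton (Ker a H) := ⟨fun y z => Subtype.ext (h.1 (y.2.trans z.2.symm))⟩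
  haveI : Subsingleton (Cok a H) := by
    rw [Submodule.Quotient.subsingleton_iff, LinearMap.range_eq_top]
    exact h.2
  simp [emul, len_subsingleton]

theorem emul_of_eq_zero {a : A} {H : Type v} [AddCommGroup H] [Module A H]
    (h : ∀ z : H, a • z = 0) : emul a H = 0 := by
  have h1 : LinearMap.lsmul A H a = 0 := LinearMap.ext h
  have e1 : len A (Cok a H) = len A H :=
    len_congr (Submodule.quotEquivOfEqBot _ (by rw [h1, LinearMap.range_zero]))
  have e2 : len A (Ker a H) = len A H :=
    len_congr (LinearEquiv.ofTop _ (by rw [Ker, h1, LinearMap.ker_zero]))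
  rw [emul, e1, e2, sub_self]

theorem emul_mul (x y : A) (H : Type v) [AddCommGroup H] [Module A H]
    (hkx : IsFiniteLength A (Ker x H)) (hky : IsFiniteLength A (Ker y H))
    (hkxy : IsFiniteLength A (Ker (x * y) H)) (hcx : IsFiniteLength A (Cok x H))
    (hcxy : IsFiniteLength A (Cok (x * y) H)) :
    emul (x * y) H = emul x H + emul y H := by
  let i : Ker x H →ₗ[A] Ker (x * y) H := Submodule.inclusion fun z hz => by
    show (x * y) • z = 0
    rw [mul_comm, mul_smul, show x • z = 0 from hz, smul_zero]
  let f : Ker (x * y) H →ₗ[A] Ker y H :=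
    LinearMap.codRestrict _ ((LinearMap.lsmul A H x) ∘ₗ (Ker (x * y) H).subtype) fun z => by
      show y • x • (z : H) = 0
      rw [← mul_smul, mul_comm]
      exact z.2
  let g : Ker y H →ₗ[A] Cok x H := (Submodule.mkQ _) ∘ₗ (Ker y H).subtype
  let h : Cok x H →ₗ[A] Cok (x * y) H := Submodule.mapQ _ _ (LinearMap.lsmul A H y) (by
    rintro _ ⟨z, rfl⟩
    exact ⟨z, by show (x * y) • z = y • x • z; rw [← mul_smul, mul_comm]⟩)
  let j : Cok (x * y) H →ₗ[A] Cok y H := Submodule.factor (by
    rintro _ ⟨z, rfl⟩
    exact ⟨x • z, by show y • x • z = (x * y) • z; rw [← mul_smul, mul_comm]⟩)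
  have e1 : Function.Exact i f := fun z => by
    refine ⟨fun hz => ⟨⟨z.1, congrArg Subtype.val hz⟩, rfl⟩, ?_⟩
    rintro ⟨w, rfl⟩
    exact Subtype.ext w.2
  have e2 : Function.Exact f g := fun z => by
    constructor
    · intro hz
      obtain ⟨w, hw⟩ := (Submodule.Quotient.mk_eq_zero _).1 hz
      refine ⟨⟨w, ?_⟩, Subtype.ext hw⟩
      show (x * y) • w = 0
      rw [mul_comm, mul_smul, show x • w = (z : H) from hw]
      exact z.2
    · rintro ⟨w, rfl⟩
      exact (Submodule.Quotient.mk_eq_zero _).2 ⟨w.1, rfl⟩
  have e3 : Function.Exact g h := fun z => by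
    constructor
    · intro hz
      obtain ⟨z, rfl⟩ := Submodule.Quotient.mk_surjective _ z
      obtain ⟨w, hw⟩ := (Submodule.Quotient.mk_eq_zero _).1 hz
      refine ⟨⟨z - x • w, ?_⟩, (Submodule.Quotient.eq _).2 ⟨-w, ?_⟩⟩
      · show y • (z - x • w) = 0
        rw [smul_sub, ← mul_smul, mul_comm, sub_eq_zero]
        exact hw.symm
      · show x • -w = z - x • w - z
        rw [smul_neg]; abel
    · rintro ⟨w, rfl⟩
      exact (Submodule.Quotient.mk_eq_zero _).2 ⟨0, by simp [show y • (w : H) = 0 from w.2]⟩
  have e4 : Function.Exact h j := fun z => by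
    constructor
    · intro hz
      obtain ⟨z, rfl⟩ := Submodule.Quotient.mk_surjective _ z
      obtain ⟨w, hw⟩ := (Submodule.Quotient.mk_eq_zero _).1 hz
      exact ⟨Submodule.Quotient.mk w, congrArg Submodule.Quotient.mk hw⟩
    · rintro ⟨w, rfl⟩
      obtain ⟨w, rfl⟩ := Submodule.Quotient.mk_surjective _ w
      exact (Submodule.Quotient.mk_eq_zero _).2 ⟨w, rfl⟩
  have hj : Function.Surjective j := Submodule.factor_surjective _
  have a1 := len_range_add_range i f e1 hkxy
  have a2 := len_range_add_range f g e2 hky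
  have a3 := len_range_add_range g h e3 hcx
  have a4 := len_range_add_range h j e4 hcxy
  rw [len_range_of_injective i (Submodule.inclusion_injective _)] at a1
  rw [len_range_of_surjective j hj] at a4
  simp only [emul]
  omega

/-- Five term comparison: the middle is an extension of a kernel by a cokernel. -/
theorem len_middle {H H' X : Type v} [AddCommGroup H] [Module A H] [AddCommGroup H'] [Module A H']
    [AddCommGroup X] [Module A X] (a : A) (b : H →ₗ[A] X) (δ : X →ₗ[A] H')
    (h1 : LinearMap.ker b = LinearMap.range (LinearMap.lsmul A H a)) (h2 : Function.Exact b δ)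
    (h3 : LinearMap.range δ = Ker a H') (hX : IsFiniteLength A X) :
    IsFiniteLength A (Cok a H) ∧ IsFiniteLength A (Ker a H') ∧
      len A X = len A (Cok a H) + len A (Ker a H') := by
  let e := (Submodule.quotEquivOfEq _ _ h1.symm).trans b.quotKerEquivRange
  refine ⟨fl_of_injective ((LinearMap.range b).subtype ∘ₗ e.toLinearMap)
      ((Submodule.injective_subtype _).comp e.injective) hX,
    fl_of_surjective ((LinearEquiv.ofEq _ _ h3).toLinearMap ∘ₗ δ.rangeRestrict)
      ((LinearEquiv.ofEq _ _ h3).surjective.comp δ.surjective_rangeRestrict) hX, ?_⟩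
  rw [len_range_add_range b δ h2 hX, len_congr e, len_congr (LinearEquiv.ofEq _ _ h3)]

end Groth.Agent.H1KoszulEuler
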