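import Groth.Agent.H1KoszulEuler.Growth

/-! The rank formula. -/

universe u

open IsLocalRing TensorProduct
open scoped Pointwise

namespace Groth.Agent.H1KoszulEuler

variable {A : Type u} [CommRing A] [IsNoetherianRing A] [IsLocalRing A] [IsDomain A]

theorem chi_eq_rank_mul (l : List A) (hl' : ∀ a ∈ l, a ∈ maximalIdeal A)
    (hd : ringKrullDim A = (l.length : WithBot ℕ∞)) (M : Type u) [AddCommGroup M] [Module A M]
    [Module.Finite A M] (hA : Good l A) :
    chi l M = (Module.finrank (FractionRing A) (FractionRing A ⊗[A] M) : ℤ) * chi l A := by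
  have hgood : ∀ (N : Type u) [AddCommGroup N] [Module A N], Good l N := fun N _ _ =>
    hA.mono (by
      intro r hr
      have : r • (1 : A) = 0 := Module.mem_annihilator.1 hr 1
      rw [smul_eq_mul, mul_one] at this
      rw [this]
      exact zero_mem _)
  let K := FractionRing A
  refine devissage l (P := fun N _ _ _ =>
    chi l N = (Module.finrank K (K ⊗[A] N) : ℤ) * chi l A) ?_ ?_ ?_ M (hgood M)
  · intro N _ _ _ _ hN
    haveI : Subsingleton (K ⊗[A] N) := subsingleton_of_forall_eq 0 fun w => by
      induction w using TensorProduct.induction_on with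
      | zero => rfl
      | tmul x y => rw [Subsingleton.elim y 0, TensorProduct.tmul_zero]
      | add x y hx hy => rw [hx, hy, add_zero]
    rw [chi_subsingleton l N hN, Module.finrank_zero_of_subsingleton]
    simp
  · intro N _ _ _ p e hp hN
    by_cases hp0 : p.1 = ⊥
    · let e' : N ≃ₗ[A] A := e.trans (Submodule.quotEquivOfEqBot _ hp0)
      let eK : K ⊗[A] N ≃ₗ[K] K :=
        (TensorProduct.AlgebraTensorModule.congr (LinearEquiv.refl K K) e').trans (TensorProduct.AlgebraTensorModule.rid A K K)
      rw [eK.finrank_eq, Module.finrank_self, chi_congr l e' hN]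
      simp
    · obtain ⟨a, ha, ha0⟩ := Submodule.exists_mem_ne_zero_of_ne_bot hp0
      have hann : ∀ z : N, a • z = 0 := hp.smul_eq_zero ha
      haveI : Subsingleton (K ⊗[A] N) := subsingleton_of_forall_eq 0 fun w => by
        have hw : a • w = 0 := by
          induction w using TensorProduct.induction_on with
          | zero => rw [smul_zero]
          | tmul x y => rw [← TensorProduct.tmul_smul, hann, TensorProduct.tmul_zero]
          | add x y hx hy => rw [smul_add, hx, hy, add_zero]
        rw [← algebraMap_smul K a w] at hw
        exact (smul_eq_zero.1 hw).resolve_left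
          (fun h0 => ha0 ((map_eq_zero_iff _ (IsFractionRing.injective A K)).1 h0))
      rw [Module.finrank_zero_of_subsingleton, Nat.cast_zero, zero_mul]
      refine chi_eq_zero_of_lt l hl' N hN ?_
      have hle : p.1 ≤ maximalIdeal A := IsLocalRing.le_maximalIdeal p.2.ne_top
      have hreg : IsSMulRegular A a := fun x y h => mul_left_cancel₀ ha0 h
      have hdim := dim_quot hreg (hle ha)
      rw [Module.supportDim_self_eq_ringKrullDim, hd] at hdim
      let π : QuotSMulTop a A →ₗ[A] N := Submodule.liftQ _
        (e.symm.toLinearMap.comp (Submodule.mkQ p.1)) (fun x hx => by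
          obtain ⟨y, -, rfl⟩ := Submodule.mem_map.1 hx
          show e.symm (Submodule.Quotient.mk (a • y)) = 0
          rw [(Submodule.Quotient.mk_eq_zero p.1).2 (by exact p.1.mul_mem_right y ha), map_zero])
      have hπ : Function.Surjective π := fun z => by
        obtain ⟨x, hx⟩ := Submodule.mkQ_surjective p.1 (e z)
        exact ⟨Submodule.Quotient.mk x, (congrArg e.symm hx).trans (e.symm_apply_apply z)⟩
      refine (Module.supportDim_le_of_surjective π hπ).trans_lt ?_
      rw [← hdim]
      induction hx : Module.supportDim A (QuotSMulTop a A) using WithBot.recBotCoe with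
      | bot => rw [hx, WithBot.bot_add] at hdim; exact (WithBot.bot_ne_natCast _ hdim).elim
      | coe c =>
        rw [hx] at hdim
        have h2 : c + 1 = (l.length : ℕ∞) := WithBot.coe_injective (by simpa using hdim)
        have hne : c ≠ ⊤ := fun hc => by rw [hc, top_add] at h2; exact ENat.top_ne_natCast _ h2
        show (c : WithBot ℕ∞) < ((c + 1 : ℕ∞) : WithBot ℕ∞)
        exact WithBot.coe_lt_coe.2 ((ENat.add_one_le_iff hne).1 le_rfl)
  · intro N₁ _ _ _ N₂ _ _ _ N₃ _ _ _ f g hf hg he hN h1 h3
    have e1 : Function.Injective (f.baseChange K) :=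
      Module.Flat.lTensor_preserves_injective_linearMap f hf
    have e2 : Function.Surjective (g.baseChange K) := LinearMap.lTensor_surjective K hg
    have e3 : Function.Exact (f.baseChange K) (g.baseChange K) := lTensor_exact K he hg
    haveI : Module.Finite K (K ⊗[A] N₂) := Module.Finite.base_change A K N₂
    have hr := (g.baseChange K).finrank_range_add_finrank_ker
    rw [LinearMap.range_eq_top.2 e2, finrank_top, LinearMap.exact_iff.1 e3,
      LinearMap.finrank_range_of_inj e1] at hr
    rw [chi_add f g hf hg he l hN, h1, h3, ← hr]
    push_cast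
    ring

end Groth.Agent.H1KoszulEuler
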