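import Groth.Agent.H1KoszulEuler.Devissage

/-! Vanishing, positivity, scaling, growth and rank formula for Koszul Euler characteristics. -/

universe u

open IsLocalRing
open scoped Pointwise

namespace Groth.Agent.H1KoszulEuler

variable {A : Type u} [CommRing A] [IsNoetherianRing A] [IsLocalRing A]

omit [IsNoetherianRing A] [IsLocalRing A] in
theorem len_cok_of_zero {a : A} {H : Type u} [AddCommGroup H] [Module A H] (h : ∀ z : H, a • z = 0) :
    len A (Cok a H) = len A H ∧ len A (Ker a H) = len A H := by
  have h1 : LinearMap.lsmul A H a = 0 := LinearMap.ext h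
  exact ⟨len_congr (Submodule.quotEquivOfEqBot _ (by rw [h1, LinearMap.range_zero])),
    len_congr (LinearEquiv.ofTop _ (by rw [Ker, h1, LinearMap.ker_zero]))⟩

theorem hl_of_subsingleton (l : List A) (N : Type u) [AddCommGroup N] [Module A N] [Subsingleton N] (q : ℤ) :
    hl l N q = 0 := by
  haveI : Subsingleton (KH l N q) := subsingleton_of_forall_eq 0 fun z => by
    rw [← one_smul A z]
    exact smul_KH_of_ann l N (Module.mem_annihilator.2 fun _ => Subsingleton.elim _ _) q z
  exact len_subsingleton _

theorem chi_cons_one (l : List A) (N : Type u) [AddCommGroup N] [Module A N] [Module.Finite A N]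
    (h : Good ((1 : A) :: l) N) : chi ((1 : A) :: l) N = 0 := by
  rw [chi_cons h]
  refine finsum_eq_zero_of_forall_eq_zero fun q => ?_
  rw [emul_of_bijective, mul_zero]
  simp only [one_smul]
  exact Function.bijective_id

theorem good_of_powers {a : A} {l : List A} {N : Type u} [AddCommGroup N] [Module A N]
    (h : Good (a :: l) N) (j : ℕ) : Good (a ^ j :: l) N := by
  refine h.of_radical ?_
  rw [Ideal.ofList_cons, Ideal.ofList_cons]
  refine sup_le ((Ideal.span_singleton_le_iff_mem _).2 ⟨j, Ideal.mem_sup_left (Ideal.mem_span_singleton_self _)⟩)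
    (le_sup_right.trans Ideal.le_radical)

theorem chi_pow {a : A} {l : List A} {N : Type u} [AddCommGroup N] [Module A N] [Module.Finite A N]
    (h : Good (a :: l) N) : ∀ j : ℕ, chi (a ^ j :: l) N = j * chi (a :: l) N
  | 0 => by
    have := chi_cons_one l N (by simpa using good_of_powers h 0)
    simpa using this
  | j + 1 => by
    rw [pow_succ, chi_mul (good_of_powers h j) h, chi_pow h j]
    push_cast
    ring

theorem supportDim_max {N₁ N₂ N₃ : Type u} [AddCommGroup N₁] [Module A N₁] [AddCommGroup N₂] [Module A N₂]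
    [AddCommGroup N₃] [Module A N₃] (f : N₁ →ₗ[A] N₂) (g : N₂ →ₗ[A] N₃) (hf : Function.Injective f)
    (hg : Function.Surjective g) (he : Function.Exact f g) :
    Module.supportDim A N₂ ≤ max (Module.supportDim A N₁) (Module.supportDim A N₃) := by
  refine iSup_le fun c => ?_
  have hmem : ∀ i, (c i).1 ∈ Module.support A N₂ := fun i => (c i).2
  have hup : ∀ (N : Type u) [AddCommGroup N] [Module A N], (c 0).1 ∈ Module.support A N →
      (c.length : WithBot ℕ∞) ≤ Module.supportDim A N := by
    intro N _ _ h0
    let c' : LTSeries (Module.support A N) :=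
      { length := c.length
        toFun := fun i => ⟨(c i).1, Module.mem_support_mono (c.monotone (Fin.zero_le i)) h0⟩
        step := fun i => c.step i }
    exact le_iSup (fun d : LTSeries (Module.support A N) => (d.length : WithBot ℕ∞)) c'
  have h0 : (c 0).1 ∈ Module.support A N₁ ∪ Module.support A N₃ := by
    rw [← Module.support_of_exact he hf hg]; exact hmem 0
  rcases h0 with h0 | h0
  · exact (hup N₁ h0).trans (le_max_left _ _)
  · exact (hup N₃ h0).trans (le_max_right _ _)

theorem lt_of_add_one_lt {x : WithBot ℕ∞} {k : ℕ} (h : x + 1 < ((k + 1 : ℕ) : WithBot ℕ∞)) :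
    x < (k : WithBot ℕ∞) :=
  lt_of_not_ge fun hge => h.not_ge (by rw [Nat.cast_add, Nat.cast_one]; exact add_le_add hge le_rfl)

theorem le_of_add_one_le {x : WithBot ℕ∞} {k : ℕ} (h : x + 1 ≤ ((k + 1 : ℕ) : WithBot ℕ∞)) :
    x ≤ (k : WithBot ℕ∞) := by
  induction x using WithBot.recBotCoe with
  | bot => exact bot_le
  | coe e =>
    have h' : e + 1 ≤ (k : ℕ∞) + 1 := WithBot.coe_le_coe.1 (by simpa using h)
    exact WithBot.coe_le_coe.2 ((WithTop.add_le_add_iff_right ENat.one_ne_top).1 h')

theorem dim_quot {a : A} {N : Type u} [AddCommGroup N] [Module A N] [Module.Finite A N]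
    (hreg : IsSMulRegular N a) (ha : a ∈ maximalIdeal A) :
    Module.supportDim A (QuotSMulTop a N) + 1 = Module.supportDim A N :=
  Module.supportDim_quotSMulTop_succ_eq_supportDim hreg ha

theorem dim_le_length : ∀ (l : List A), (∀ a ∈ l, a ∈ maximalIdeal A) →
    ∀ (M : Type u) [AddCommGroup M] [Module A M] [Module.Finite A M], Good l M →
      Module.supportDim A M ≤ (l.length : WithBot ℕ∞)
  | [], _, M, _, _, _, h => by
    have hs : (Module.support A M).Subsingleton := fun p hp q hq => by
      have key : ∀ r : PrimeSpectrum A, r ∈ Module.support A M → r.asIdeal = maximalIdeal A := fun r hr => by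
        refine le_antisymm (IsLocalRing.le_maximalIdeal r.isPrime.ne_top) (h.trans ?_)
        rw [Ideal.ofList_nil, bot_sup_eq]
        exact (r.isPrime.radical_le_iff).2 (Module.mem_support_iff_of_finite.1 hr)
      exact PrimeSpectrum.ext ((key p hp).trans (key q hq).symm)
    haveI := hs.coe_sort
    simp only [List.length_nil, CharP.cast_eq_zero]
    exact Order.krullDim_nonpos_of_subsingleton
  | a :: l, hl', M, _, _, _, h => by
    have h1 := dim_le_length l (fun b hb => hl' b (List.mem_cons_of_mem _ hb)) (QuotSMulTop a M)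
      (h.tail (ann_quotSMulTop a M))
    refine (Module.supportDim_le_supportDim_quotSMulTop_succ (hl' a List.mem_cons_self)).trans ?_
    rw [List.length_cons, Nat.cast_add, Nat.cast_one]
    exact add_le_add h1 le_rfl

theorem chi_eq_zero_of_lt : ∀ (l : List A), (∀ a ∈ l, a ∈ maximalIdeal A) →
    ∀ (M : Type u) [AddCommGroup M] [Module A M] [Module.Finite A M], Good l M →
      Module.supportDim A M < (l.length : WithBot ℕ∞) → chi l M = 0
  | [], _, M, _, _, _, h, hd => by
    have : Subsingleton M := by
      by_contra hne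
      haveI : Nontrivial M := not_subsingleton_iff_nontrivial.1 hne
      exact hd.not_ge (by
        simp only [List.length_nil, CharP.cast_eq_zero]
        exact Order.krullDim_nonneg_iff.2 (Module.nonempty_support_of_nontrivial (R := A) (M := M)).to_subtype)
    exact chi_subsingleton _ M h
  | a :: l, hl', M, _, _, _, h, hd => by
    revert hd
    refine devissage (a :: l) (P := fun N _ _ _ =>
      Module.supportDim A N < ((a :: l).length : WithBot ℕ∞) → chi (a :: l) N = 0) ?_ ?_ ?_ M h
    · intro N _ _ _ _ hN _; exact chi_subsingleton _ N hN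
    · intro N _ _ _ p _ hp hN hd
      by_cases ha : a ∈ p.1
      · exact chi_cons_zero hN fun q z => smul_KH_of_ann l N (hp.ann.symm ▸ ha) q z
      · rw [chi_cons_of_regular hN (hp.reg a ha)]
        refine chi_eq_zero_of_lt l (fun b hb => hl' b (List.mem_cons_of_mem _ hb)) _
          (hN.tail (ann_quotSMulTop a N)) (lt_of_add_one_lt ?_)
        rw [dim_quot (hp.reg a ha) (hl' a List.mem_cons_self)]
        exact hd
    · intro N₁ _ _ _ N₂ _ _ _ N₃ _ _ _ f g hf hg he hN h1 h3 hd
      rw [chi_add f g hf hg he _ hN, h1 ((Module.supportDim_le_of_injective f hf).trans_lt hd),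
        h3 ((Module.supportDim_le_of_surjective g hg).trans_lt hd), add_zero]

theorem chi_nil (M : Type u) [AddCommGroup M] [Module A M] : chi ([] : List A) M = (len A M : ℤ) := by
  rw [chi, finsum_eq_single _ (0 : ℤ) (fun q hq => by rw [hl_eq_zero [] M q (by simp; omega)]; simp)]
  obtain ⟨e⟩ := Koszul15.nonempty_top_equiv ([] : List A) (ModuleCat.of A M)
  have : hl ([] : List A) M 0 = len A M :=
    (len_congr e).trans (len_congr (Submodule.quotEquivOfEqBot _ (by simp)))
  simp [this, sgn]

theorem chi_pos_of_eq : ∀ (l : List A), (∀ a ∈ l, a ∈ maximalIdeal A) →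
    ∀ (M : Type u) [AddCommGroup M] [Module A M] [Module.Finite A M], Good l M →
      Module.supportDim A M = (l.length : WithBot ℕ∞) → 0 < chi l M
  | [], _, M, _, _, _, h, hd => by
    haveI : Nontrivial M := not_subsingleton_iff_nontrivial.1 fun hs => by
      rw [(Module.supportDim_eq_bot_iff_subsingleton A _).2 hs] at hd
      exact WithBot.bot_ne_natCast _ hd
    rw [chi_nil]
    have hfl : IsFiniteLength A M := by
      obtain ⟨e⟩ := Koszul15.nonempty_top_equiv ([] : List A) (ModuleCat.of A M)
      let e' := e.trans (Submodule.quotEquivOfEqBot _ (by simp))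
      exact fl_of_surjective e'.toLinearMap e'.surjective (fl_KH h 0)
    have := coe_len hfl
    have hne : Module.length A M ≠ 0 := fun h0 => not_subsingleton M (Module.length_eq_zero_iff.1 h0)
    have : len A M ≠ 0 := fun h0 => hne (by rw [← this, h0, Nat.cast_zero])
    omega
  | a :: l, hl', M, _, _, _, h, hd => by
    suffices H : Module.supportDim A M ≤ ((a :: l).length : WithBot ℕ∞) →
        0 ≤ chi (a :: l) M ∧ (Module.supportDim A M = ((a :: l).length : WithBot ℕ∞) → 0 < chi (a :: l) M) from
      (H hd.le).2 hd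
    refine devissage (a :: l) (P := fun N _ _ _ => Module.supportDim A N ≤ ((a :: l).length : WithBot ℕ∞) →
      0 ≤ chi (a :: l) N ∧ (Module.supportDim A N = ((a :: l).length : WithBot ℕ∞) → 0 < chi (a :: l) N))
      ?_ ?_ ?_ M h
    · intro N _ _ _ _ hN _
      refine ⟨(chi_subsingleton _ N hN).ge, fun he => ?_⟩
      rw [(Module.supportDim_eq_bot_iff_subsingleton A _).2 ‹_›] at he
      exact (WithBot.bot_ne_natCast _ he).elim
    · intro N _ _ _ p _ hp hN hle
      have hpos : Module.supportDim A N = ((a :: l).length : WithBot ℕ∞) → 0 < chi (a :: l) N := fun he => by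
        have ha : a ∉ p.1 := fun ha => by
          have hann : Ideal.span {a} ≤ Module.annihilator A N :=
            (Ideal.span_singleton_le_iff_mem _).2 (hp.ann.symm ▸ ha)
          have := dim_le_length l (fun b hb => hl' b (List.mem_cons_of_mem _ hb)) N
            (hN.tail (sup_le le_rfl hann))
          rw [he, List.length_cons] at this
          exact absurd this (not_le.2 (by exact_mod_cast Nat.lt_succ_self l.length))
        rw [chi_cons_of_regular hN (hp.reg a ha)]
        have hq := hN.tail (ann_quotSMulTop a N)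
        have hl'' : ∀ b ∈ l, b ∈ maximalIdeal A := fun b hb => hl' b (List.mem_cons_of_mem _ hb)
        refine chi_pos_of_eq l hl'' _ hq (le_antisymm (dim_le_length l hl'' _ hq) (le_of_not_gt fun hlt => ?_))
        have h1 := dim_quot (hp.reg a ha) (hl' a List.mem_cons_self)
        rw [he] at h1
        induction hx : Module.supportDim A (QuotSMulTop a N) using WithBot.recBotCoe with
        | bot => rw [hx, WithBot.bot_add] at h1; exact WithBot.bot_ne_natCast _ h1
        | coe e =>
          rw [hx] at h1 hlt
          have h2 : e + 1 = (l.length : ℕ∞) + 1 := WithBot.coe_injective (by simpa using h1)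
          rw [ENat.add_left_injective_of_ne_top ENat.one_ne_top h2] at hlt
          exact lt_irrefl _ hlt
      rcases hle.lt_or_eq with hlt | he
      · exact ⟨(chi_eq_zero_of_lt _ hl' N hN hlt).ge, hpos⟩
      · exact ⟨(hpos he).le, hpos⟩
    · intro N₁ _ _ _ N₂ _ _ _ N₃ _ _ _ f g hf hg he hN h1 h3 hle
      obtain ⟨a1, b1⟩ := h1 ((Module.supportDim_le_of_injective f hf).trans hle)
      obtain ⟨a3, b3⟩ := h3 ((Module.supportDim_le_of_surjective g hg).trans hle)
      rw [chi_add f g hf hg he _ hN]
      refine ⟨add_nonneg a1 a3, fun heq => ?_⟩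
      rcases le_max_iff.1 (heq ▸ supportDim_max f g hf hg he) with h' | h'
      · exact add_pos_of_pos_of_nonneg (b1 (le_antisymm ((Module.supportDim_le_of_injective f hf).trans hle) h')) a3
      · exact add_pos_of_nonneg_of_pos a1 (b3 (le_antisymm ((Module.supportDim_le_of_surjective g hg).trans hle) h'))

omit [IsNoetherianRing A] [IsLocalRing A] in
theorem ofList_map_le (L : List (A × ℕ)) :
    Ideal.ofList (L.map Prod.fst) ≤ (Ideal.ofList (L.map fun z => z.1 ^ z.2)).radical := by
  refine Ideal.span_le.2 fun x hx => ?_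
  obtain ⟨z, hz, rfl⟩ := List.mem_map.1 hx
  exact ⟨z.2, Ideal.subset_span (List.mem_map.2 ⟨z, hz, rfl⟩)⟩

theorem chi_scale : ∀ (L : List (A × ℕ)) (M : Type u) [AddCommGroup M] [Module A M] [Module.Finite A M],
    Good (L.map Prod.fst) M →
      chi (L.map fun z => z.1 ^ z.2) M = ((L.map Prod.snd).prod : ℤ) * chi (L.map Prod.fst) M
  | [], M, _, _, _, _ => by simp
  | (a, m) :: L, M, _, _, _, h => by
    have key : ∀ (N : Type u) [AddCommGroup N] [Module A N], Good (a :: L.map Prod.fst) N →
        Good (a ^ m :: L.map fun z => z.1 ^ z.2) N := fun N _ _ hN => by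
      refine (good_of_powers hN m).of_radical ?_
      rw [Ideal.ofList_cons, Ideal.ofList_cons]
      exact sup_le (le_sup_left.trans Ideal.le_radical)
        ((ofList_map_le L).trans (Ideal.radical_mono le_sup_right))
    simp only [List.map_cons, List.prod_cons, Nat.cast_mul]
    refine devissage (a :: L.map Prod.fst) (P := fun N _ _ _ =>
      chi (a ^ m :: L.map fun z => z.1 ^ z.2) N =
        ((m : ℤ) * ((L.map Prod.snd).prod : ℤ)) * chi (a :: L.map Prod.fst) N) ?_ ?_ ?_ M h
    · intro N _ _ _ _ hN
      rw [chi_subsingleton _ N hN, chi_subsingleton _ N (key N hN), mul_zero]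
    · intro N _ _ _ p _ hp hN
      by_cases ha : a ∈ p.1
      · rw [chi_cons_zero hN fun q z => smul_KH_of_ann _ N (hp.ann.symm ▸ ha) q z, mul_zero]
        rcases Nat.eq_zero_or_pos m with rfl | hm
        · rw [pow_zero] at key ⊢
          exact chi_cons_one _ N (key N hN)
        · exact chi_cons_zero (key N hN) fun q z => smul_KH_of_ann _ N
            (hp.ann.symm ▸ Ideal.pow_mem_of_mem _ ha m hm) q z
      · have hreg : IsSMulRegular N (a ^ m) := (hp.reg a ha).pow m
        have hN' : Good (a ^ m :: L.map Prod.fst) N := good_of_powers hN m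
        rw [chi_cons_of_regular (key N hN) hreg,
          chi_scale L (QuotSMulTop (a ^ m) N) (hN'.tail (ann_quotSMulTop _ N)),
          ← chi_cons_of_regular hN' hreg, chi_pow hN m]
        ring
    · intro N₁ _ _ _ N₂ _ _ _ N₃ _ _ _ f g hf hg he hN h1 h3
      rw [chi_add f g hf hg he _ hN, chi_add f g hf hg he _ (key N₂ hN), h1, h3]
      ring

end Groth.Agent.H1KoszulEuler
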